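import Groth.Agent.FrobDescLib.Sub
import Groth.Agent.PerfectionLib.Apps
import Groth.Agent.PerfectionLib.Mile
import Groth.Agent.LocFFLib.Basic
import Groth.Agent.S0415
import Groth.Prelude.Def_Pi1

/-! A universal homeomorphism onto a normal integral scheme is a factor of an iterate of the absolute
Frobenius: the sections upstairs have their `p ^ n`-th powers downstairs. -/

set_option autoImplicit false
set_option backward.isDefEq.respectTransparency false
set_option backward.isDefEq.respectTransparency.types false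

universe u

open CategoryTheory CategoryTheory.Limits AlgebraicGeometry TopologicalSpace

namespace UHFrobLib

variable {p : ℕ} [Fact p.Prime] {X Y : Scheme.{u}}

theorem iterate_frob_eq (X : Scheme.{u}) (p : ℕ) [Fact p.Prime] [FrobSch.IsCharP X p] (n : ℕ) :
    (fun g : X ⟶ X => g ≫ FrobSch.frob X p)^[n] (𝟙 X) = Groth.Agent.FrobDesc.frobN X p n := by
  induction n with
  | zero => rfl
  | succ n ih => rw [Function.iterate_succ_apply', ih]; rfl

theorem univHomeo_frobN (X : Scheme.{u}) [FrobSch.IsCharP X p] :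
    ∀ n, FlatMor.IsUnivHomeo (Groth.Agent.FrobDesc.frobN X p n)
  | 0 => by
    show FlatMor.IsUnivHomeo (𝟙 X)
    exact (Groth.Agent.S0415.result _).2 ⟨inferInstance, inferInstance, inferInstance⟩
  | n + 1 => Groth.Agent.PerfectionLib.univHomeo_comp (univHomeo_frobN X n) (Groth.Agent.PerfectionLib.univHomeo_frob X)

/-- Cancellation on the left by a universal homeomorphism. -/
theorem univHomeo_of_comp_left {A B C : Scheme.{u}} (u : A ⟶ B) (w : B ⟶ C) (hu : FlatMor.IsUnivHomeo u)
    (h : FlatMor.IsUnivHomeo (u ≫ w)) : FlatMor.IsUnivHomeo w := by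
  intro B' C' i₁ i₂ w' hsq
  have hA := IsPullback.of_hasPullback i₁ u
  have h1 : IsHomeomorph (pullback.fst i₁ u) := hu _ _ (pullback.fst i₁ u) hA
  have h2 : IsHomeomorph (pullback.fst i₁ u ≫ w') := h _ _ _ (hA.paste_horiz hsq)
  have h3 : IsHomeomorph (w' ∘ (pullback.fst i₁ u)) := by
    simpa using h2
  have h4 : (w' : B' → C') = (w' ∘ (pullback.fst i₁ u)) ∘ h1.homeomorph.symm := by
    funext b
    exact congrArg w' (h1.homeomorph.apply_symm_apply b).symm
  show IsHomeomorph (w' : B' → C')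
  rw [h4]
  exact h3.comp h1.homeomorph.symm.isHomeomorph

variable [IsIntegral X] [IsIntegral Y] (u : X ⟶ Y) (e : u (genericPoint X) = genericPoint Y)

/-- The map of function fields. -/
noncomputable abbrev ff : Y.functionField →+* X.functionField :=
  (Y.presheaf.stalkSpecializes (specializes_of_eq e) ≫ u.stalkMap (genericPoint X)).hom

theorem ff_algebraMap (V : Y.Opens) [Nonempty V] [Nonempty (u ⁻¹ᵁ V : X.Opens)] (a : Γ(Y, V)) :
    ff u e (algebraMap Γ(Y, V) Y.functionField a) =
      algebraMap Γ(X, u ⁻¹ᵁ V) X.functionField (u.app V a) := by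
  show (Y.presheaf.stalkSpecializes (specializes_of_eq e) ≫ u.stalkMap (genericPoint X))
      (Y.germToFunctionField V a) = X.germToFunctionField _ (u.app V a)
  simp only [Scheme.germToFunctionField, CommRingCat.comp_apply]
  rw [TopCat.Presheaf.germ_stalkSpecializes_apply]
  exact Scheme.Hom.germ_stalkMap_apply _ _ _ _ _

theorem charP_functionField (X : Scheme.{u}) [IsIntegral X] (p : ℕ) [Fact p.Prime] [FrobSch.IsCharP X p] :
    CharP X.functionField p := by
  refine (CharP.charP_iff_prime_eq_zero Fact.out).2 ?_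
  haveI : Nonempty (⊤ : X.Opens) := ⟨⟨genericPoint X, trivial⟩⟩
  exact (map_natCast (X.germToFunctionField ⊤).hom p).symm.trans
    ((congrArg (X.germToFunctionField ⊤).hom (FrobSch.IsCharP.natCast_eq_zero (X := X) (p := p))).trans
      (map_zero _))

theorem ff_exists_pow [FrobSch.IsCharP Y p] (hu : FlatMor.IsUnivHomeo u) (f : X.functionField) :
    ∃ j : ℕ, ∃ g, ff u e g = f ^ p ^ j := by
  haveI := charP_functionField Y p
  have key : UniversallyInjective u ↔
      Function.Injective u ∧ ∀ x, (u.residueFieldMap x).hom.IsPurelyInseparable :=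
    (tfae_universallyInjective (f := u)).out 0 2
  have hp := (key.mp ((Groth.Agent.S0415.result u).1 hu).2.1).2 (genericPoint X)
  letI := (u.residueFieldMap (genericPoint X)).hom.toAlgebra
  haveI : IsPurelyInseparable (Y.residueField (u (genericPoint X))) (X.residueField (genericPoint X)) := hp
  haveI : ExpChar (Y.residueField (u (genericPoint X))) p :=
    expChar_of_injective_ringHom ((Y.residue (u (genericPoint X))).hom.comp
      (Y.presheaf.stalkSpecializes (specializes_of_eq e)).hom).injective p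
  obtain ⟨j, r, hr⟩ := (isPurelyInseparable_iff_pow_mem (F := Y.residueField (u (genericPoint X)))
    (E := X.residueField (genericPoint X)) p).1 inferInstance ((X.residue (genericPoint X)).hom f)
  obtain ⟨s, rfl⟩ := Y.residue_surjective (u (genericPoint X)) r
  refine ⟨j, Y.presheaf.stalkSpecializes (specializes_of_eq e.symm) s, ?_⟩
  have hs : Y.presheaf.stalkSpecializes (specializes_of_eq e)
      (Y.presheaf.stalkSpecializes (specializes_of_eq e.symm) s) = s := by
    rw [← CommRingCat.comp_apply, TopCat.Presheaf.stalkSpecializes_comp, TopCat.Presheaf.stalkSpecializes_refl]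
    rfl
  show (u.stalkMap (genericPoint X)) (Y.presheaf.stalkSpecializes _ _) = _
  rw [hs]
  have hinj : Function.Injective (X.residue (genericPoint X)).hom :=
    RingHom.injective (R := X.functionField) (X.residue (genericPoint X)).hom
  apply hinj
  rw [map_pow]
  exact (congrArg (fun t => t.hom s) (Scheme.residue_residueFieldMap u (genericPoint X))).symm.trans hr

theorem finiteDimensional_ff [IsFinite u] [Surjective u] :
    letI := (ff u e).toAlgebra
    FiniteDimensional Y.functionField X.functionField := by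
  letI := (ff u e).toAlgebra
  obtain ⟨V, hV, hηV, -⟩ := exists_isAffineOpen_mem_and_subset (X := Y) (x := genericPoint Y) (U := ⊤) trivial
  haveI : Nonempty V := ⟨⟨_, hηV⟩⟩
  haveI : Nonempty (u ⁻¹ᵁ V : X.Opens) := ⟨⟨genericPoint X, show u _ ∈ V by rw [e]; exact hηV⟩⟩
  have hW : IsAffineOpen (u ⁻¹ᵁ V) := hV.preimage u
  haveI := functionField_isFractionRing_of_isAffineOpen X _ hW
  letI := (u.app V).hom.toAlgebra
  haveI hfin : Module.Finite Γ(Y, V) Γ(X, u ⁻¹ᵁ V) := u.finite_app V hV
  obtain ⟨s, hs⟩ := (Algebra.FiniteType.out : (⊤ : Subalgebra Γ(Y, V) Γ(X, u ⁻¹ᵁ V)).FG)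
  let ι := algebraMap Γ(X, u ⁻¹ᵁ V) X.functionField
  let T := Algebra.adjoin Y.functionField (ι '' (s : Set _))
  have hint : ∀ x ∈ ι '' (s : Set _), IsIntegral Y.functionField x := by
    rintro _ ⟨b, -, rfl⟩
    obtain ⟨q, hq, hq0⟩ := Algebra.IsIntegral.isIntegral (R := Γ(Y, V)) b
    refine ⟨q.map (algebraMap Γ(Y, V) Y.functionField), hq.map _, ?_⟩
    rw [Polynomial.eval₂_map]
    have hc : (algebraMap Y.functionField X.functionField).comp (algebraMap Γ(Y, V) Y.functionField) =
        ι.comp (algebraMap Γ(Y, V) Γ(X, u ⁻¹ᵁ V)) := RingHom.ext (ff_algebraMap u e V)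
    rw [hc, ← Polynomial.hom_eval₂, hq0, map_zero]
  haveI : Module.Finite Y.functionField T :=
    Module.Finite.of_fg (fg_adjoin_of_finite (s.finite_toSet.image ι) hint)
  have hT : ∀ b, ι b ∈ T := by
    intro b
    have hb : b ∈ Algebra.adjoin Γ(Y, V) (s : Set _) := hs.symm ▸ Algebra.mem_top
    induction hb using Algebra.adjoin_induction with
    | mem x hx => exact Algebra.subset_adjoin ⟨x, hx, rfl⟩
    | algebraMap a =>
      rw [show ι (algebraMap Γ(Y, V) Γ(X, u ⁻¹ᵁ V) a) =
        algebraMap Y.functionField X.functionField (algebraMap Γ(Y, V) Y.functionField a) from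
          (ff_algebraMap u e V a).symm]
      exact T.algebraMap_mem _
    | add x y _ _ hx hy => rw [map_add]; exact add_mem hx hy
    | mul x y _ _ hx hy => rw [map_mul]; exact mul_mem hx hy
  have htop : T = ⊤ := by
    refine eq_top_iff.2 fun x _ => ?_
    obtain ⟨b, c, hc, rfl⟩ := IsFractionRing.div_surjective (A := Γ(X, u ⁻¹ᵁ V)) x
    rw [div_eq_mul_inv]
    refine mul_mem (hT b) ?_
    haveI : Algebra.IsIntegral Y.functionField T := inferInstance
    have hTf : IsField T := isField_of_isIntegral_of_isField' (Field.toIsField Y.functionField)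
    have hc0 : (⟨ι c, hT c⟩ : T) ≠ 0 := fun h => by
      have : ι c = 0 := congrArg Subtype.val h
      exact nonZeroDivisors.ne_zero hc ((IsFractionRing.injective _ X.functionField) (this.trans (map_zero _).symm))
    obtain ⟨d, hd⟩ := hTf.mul_inv_cancel hc0
    have hd' : ι c * (d : X.functionField) = 1 := congrArg Subtype.val hd
    rw [inv_eq_of_mul_eq_one_right hd']
    exact d.2
  exact Module.Finite.equiv ((Subalgebra.equivOfEq _ _ htop).trans Subalgebra.topEquiv).toLinearEquiv

/-- The degree is a power of `p` and bounds the exponent. -/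
theorem exists_degree [FrobSch.IsCharP Y p] [IsFinite u] (hu : FlatMor.IsUnivHomeo u) :
    ∃ n : ℕ, @Module.finrank Y.functionField X.functionField _ _ (ff u e).toAlgebra.toModule = p ^ n ∧
      ∀ f : X.functionField, ∃ g, ff u e g = f ^ p ^ n := by
  haveI := charP_functionField Y p
  haveI : Surjective u := ((Groth.Agent.S0415.result u).1 hu).2.2
  letI := (ff u e).toAlgebra
  haveI : FiniteDimensional Y.functionField X.functionField := finiteDimensional_ff u e
  haveI : ExpChar Y.functionField p := ExpChar.prime Fact.out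
  haveI : IsPurelyInseparable Y.functionField X.functionField :=
    (isPurelyInseparable_iff_pow_mem Y.functionField (E := X.functionField) p).2 (ff_exists_pow u e hu)
  obtain ⟨n, hn⟩ := IsPurelyInseparable.finrank_eq_pow Y.functionField X.functionField p
  refine ⟨n, hn, fun f => ?_⟩
  have h1 : p ^ IsPurelyInseparable.elemExponent Y.functionField f ≤ p ^ n := by
    rw [← IsPurelyInseparable.minpoly_natDegree_eq' Y.functionField p f, ← hn]
    exact minpoly.natDegree_le f
  obtain ⟨g, hg⟩ := IsPurelyInseparable.elemExponent_def' Y.functionField p f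
  have hle : IsPurelyInseparable.elemExponent Y.functionField f ≤ n :=
    (Nat.pow_le_pow_iff_right (Fact.out : p.Prime).one_lt).1 h1
  refine ⟨g ^ p ^ (n - IsPurelyInseparable.elemExponent Y.functionField f), ?_⟩
  have hg' : ff u e g = f ^ p ^ IsPurelyInseparable.elemExponent Y.functionField f := hg
  rw [map_pow, hg', ← pow_mul, ← pow_add, Nat.add_sub_cancel' hle]

omit [IsIntegral Y] in
theorem frobN_affine {U : X.Opens} (hU : IsAffineOpen U) [Nonempty U] [FrobSch.IsCharP X p] (n : ℕ)
    [CharP Γ(X, U) p] :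
    U.ι ≫ Groth.Agent.FrobDesc.frobN X p n =
      hU.isoSpec.hom ≫ Spec.map (CommRingCat.ofHom (iterateFrobenius Γ(X, U) p n)) ≫ hU.fromSpec := by
  haveI : FrobSch.IsCharP (U : Scheme.{u}) p := FrobSch.IsCharP.of_hom U.ι p
  have h := Groth.Agent.FrobDesc.frobN_comp p hU.isoSpec.hom n
  rw [Groth.Agent.FrobDesc.frobN_Spec] at h
  rw [← Groth.Agent.FrobDesc.frobN_comp p U.ι n, ← hU.isoSpec_hom_fromSpec]
  rw [reassoc_of% h]

omit [IsIntegral Y] in
theorem exists_local (n : ℕ) [FrobSch.IsCharP X p] [IsDominant u] {V : Y.Opens} (hV : IsAffineOpen V)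
    [IsAffineHom u] [Nonempty (u ⁻¹ᵁ V : X.Opens)]
    (hex : ∀ b : Γ(X, u ⁻¹ᵁ V), ∃ a, u.app V a = b ^ p ^ n) (hinj : Function.Injective (u.app V)) :
    ∃ w : (V : Scheme.{u}) ⟶ X, (u ∣_ V) ≫ w = (u ⁻¹ᵁ V).ι ≫ Groth.Agent.FrobDesc.frobN X p n := by
  have hW : IsAffineOpen (u ⁻¹ᵁ V) := hV.preimage u
  haveI : CharP Γ(X, u ⁻¹ᵁ V) p :=
    (CharP.charP_iff_prime_eq_zero Fact.out).2 (FrobSch.natCast_eq_zero_app X p _)
  choose ψ hψ using hex
  let ψ' : Γ(X, u ⁻¹ᵁ V) →+* Γ(Y, V) :=
    { toFun := ψ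
      map_one' := hinj (by rw [hψ, one_pow]; exact (map_one (u.app V).hom).symm)
      map_mul' := fun a b => hinj (by rw [hψ, mul_pow]; refine ((map_mul (u.app V).hom _ _).trans ?_).symm; exact congrArg₂ _ (hψ a) (hψ b))
      map_zero' := hinj (by rw [hψ, zero_pow (pow_ne_zero _ (Fact.out : p.Prime).ne_zero)]; exact (map_zero (u.app V).hom).symm)
      map_add' := fun a b => hinj (by rw [hψ, add_pow_char_pow]; refine ((map_add (u.app V).hom _ _).trans ?_).symm; exact congrArg₂ _ (hψ a) (hψ b)) }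
  refine ⟨hV.isoSpec.hom ≫ Spec.map (CommRingCat.ofHom ψ') ≫ hW.fromSpec, ?_⟩
  rw [frobN_affine hW n]
  have e1 : u ∣_ V = hW.isoSpec.hom ≫ Spec.map (u.app V) ≫ hV.isoSpec.inv := by
    rw [← cancel_mono V.ι]
    simp only [Category.assoc, morphismRestrict_ι, IsAffineOpen.isoSpec_inv_ι, Scheme.Hom.app_eq_appLE]
    rw [IsAffineOpen.SpecMap_appLE_fromSpec u hV hW, IsAffineOpen.isoSpec_hom_fromSpec_assoc]
  rw [e1]
  simp only [Category.assoc, Iso.inv_hom_id_assoc]
  rw [← Spec.map_comp_assoc]
  congr 3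
  ext b
  exact hψ b

/-- The `n`-th Frobenius of `X` factors through `u`. -/
theorem exists_factor [X.IsSeparated] (hY : Pi1.IsNormalScheme Y) [IsFinite u] [Surjective u]
    [FrobSch.IsCharP X p] (n : ℕ) (hn : ∀ f : X.functionField, ∃ g, ff u e g = f ^ p ^ n) :
    ∃ w : Y ⟶ X, u ≫ w = Groth.Agent.FrobDesc.frobN X p n := by
  have hloc : ∀ y : Y, ∃ V : Y.Opens, y ∈ V ∧
      ∃ w : (V : Scheme.{u}) ⟶ X, (u ∣_ V) ≫ w = (u ⁻¹ᵁ V).ι ≫ Groth.Agent.FrobDesc.frobN X p n := by
    intro y
    obtain ⟨V, hV, hy, -⟩ := exists_isAffineOpen_mem_and_subset (X := Y) (x := y) (U := ⊤) trivial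
    refine ⟨V, hy, ?_⟩
    haveI : Nonempty V := ⟨⟨y, hy⟩⟩
    obtain ⟨x, rfl⟩ := u.surjective y
    haveI : Nonempty (u ⁻¹ᵁ V : X.Opens) := ⟨⟨x, hy⟩⟩
    haveI := functionField_isFractionRing_of_isAffineOpen X _ (hV.preimage u)
    haveI := functionField_isFractionRing_of_isAffineOpen Y _ hV
    have hiX := IsFractionRing.injective Γ(X, u ⁻¹ᵁ V) X.functionField
    refine exists_local u n hV (fun b => ?_) (fun a a' h => ?_)
    · obtain ⟨g, hg⟩ := hn (algebraMap _ _ b)
      have hint : (algebraMap Γ(Y, V) Y.functionField).IsIntegralElem g := by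
        letI := (u.app V).hom.toAlgebra
        haveI : Module.Finite Γ(Y, V) Γ(X, u ⁻¹ᵁ V) := u.finite_app V hV
        obtain ⟨q, hq, hq0⟩ := Algebra.IsIntegral.isIntegral (R := Γ(Y, V)) (b ^ p ^ n)
        refine ⟨q, hq, (ff u e).injective ?_⟩
        have hc : (ff u e).comp (algebraMap Γ(Y, V) Y.functionField) =
            (algebraMap Γ(X, u ⁻¹ᵁ V) X.functionField).comp (algebraMap Γ(Y, V) Γ(X, u ⁻¹ᵁ V)) :=
          RingHom.ext (ff_algebraMap u e V)
        rw [Polynomial.hom_eval₂, hc, hg, ← map_pow, ← Polynomial.hom_eval₂, hq0, map_zero, map_zero]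
      obtain ⟨a, rfl⟩ := LocFFLib.exists_section_of_integral hY V g hint
      refine ⟨a, hiX ?_⟩
      rw [← ff_algebraMap u e V a, hg, map_pow]
    · refine IsFractionRing.injective Γ(Y, V) Y.functionField ((ff u e).injective ?_)
      rw [ff_algebraMap, ff_algebraMap, h]
  choose V hyV w hw using hloc
  have hcov : IsOpenCover V := IsOpenCover.mk (top_le_iff.mp fun y _ => Opens.mem_iSup.2 ⟨y, hyV y⟩)
  let 𝒰 := Y.openCoverOfIsOpenCover V hcov
  have hcompat : ∀ i j, pullback.fst (𝒰.f i) (𝒰.f j) ≫ w i = pullback.snd (𝒰.f i) (𝒰.f j) ≫ w j := by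
    intro i j
    let t : pullback (𝒰.f i) (𝒰.f j) ⟶ Y := pullback.fst _ _ ≫ 𝒰.f i
    haveI : IsReduced (pullback (𝒰.f i) (𝒰.f j)) := isReduced_of_isOpenImmersion t
    let q := pullback.snd u t
    haveI : IsDominant q := inferInstance
    refine ext_of_isDominant q ?_
    have key : ∀ k (r : pullback (𝒰.f i) (𝒰.f j) ⟶ (V k : Scheme.{u})), r ≫ (V k).ι = t →
        q ≫ r ≫ w k = pullback.fst u t ≫ Groth.Agent.FrobDesc.frobN X p n := by
      intro k r hr
      have hc : pullback.fst u t ≫ u = (q ≫ r) ≫ (V k).ι := by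
        rw [Category.assoc, hr]; exact pullback.condition
      let a := (isPullback_morphismRestrict u (V k)).flip.lift (pullback.fst u t) (q ≫ r) hc
      have h1 : a ≫ (u ⁻¹ᵁ V k).ι = pullback.fst u t := IsPullback.lift_fst _ _ _ _
      have h2 : a ≫ (u ∣_ V k) = q ≫ r := IsPullback.lift_snd _ _ _ _
      rw [← Category.assoc, ← h2, Category.assoc, hw k, reassoc_of% h1]
    rw [key i _ rfl, key j _ pullback.condition.symm]
  refine ⟨𝒰.glueMorphisms w hcompat, ?_⟩
  refine Scheme.Cover.hom_ext (𝒰.pullback₁ u) _ _ fun y => ?_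
  show pullback.fst u (𝒰.f y) ≫ u ≫ 𝒰.glueMorphisms w hcompat = pullback.fst u (𝒰.f y) ≫ _
  rw [pullback.condition_assoc, 𝒰.ι_glueMorphisms w hcompat y]
  have hI := (IsPullback.of_hasPullback u (𝒰.f y))
  let a := (isPullback_morphismRestrict u (V y)).flip.lift (pullback.fst u (𝒰.f y)) (pullback.snd u (𝒰.f y))
    pullback.condition
  have h1 : a ≫ (u ⁻¹ᵁ V y).ι = pullback.fst u (𝒰.f y) := IsPullback.lift_fst _ _ _ _
  have h2 : a ≫ (u ∣_ V y) = pullback.snd u (𝒰.f y) := IsPullback.lift_snd _ _ _ _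
  rw [← h2, Category.assoc, hw y, reassoc_of% h1]

end UHFrobLib
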